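/-
Criteria for injective and projective dimension of modules in terms of Ext against cyclic modules.
-/
import Mathlib.Algebra.Category.ModuleCat.InjectiveDimension
import Mathlib.Algebra.Category.ModuleCat.Ext.HasExt
import Mathlib.Algebra.Category.ModuleCat.Projective
import Mathlib.CategoryTheory.Abelian.Projective.Dimension
import Mathlib.RingTheory.Ideal.AssociatedPrime.Finiteness
import Mathlib.RingTheory.Finiteness.Basic

open CategoryTheory Abelian

universe u

namespace Groth.Agent.HomDim

variable {A : Type u} [CommRing A]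

/-- If `Ext^1(A/I, M) = 0` then maps `I → M` extend to `A`. -/
theorem baer_of_subsingleton_ext_one (M : ModuleCat.{u} A)
    (h : ∀ I : Ideal A, Subsingleton (Ext (ModuleCat.of A (A ⧸ I)) M 1)) :
    Module.Baer A M := by
  intro I g
  let S : ShortComplex (ModuleCat.{u} A) :=
    ModuleCat.shortComplexOfCompEqZero I.subtype I.mkQ
      (LinearMap.exact_subtype_mkQ I).linearMap_comp_eq_zero
  have hS : S.ShortExact :=
    ModuleCat.shortComplex_shortExact S (LinearMap.exact_subtype_mkQ I) I.injective_subtype
      (Submodule.mkQ_surjective I)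
  have := h I
  obtain ⟨x, hx⟩ := Ext.contravariant_sequence_exact₁ hS M
    (Ext.mk₀ (ModuleCat.ofHom g : S.X₁ ⟶ M)) (add_zero 1) (Subsingleton.elim (α := Ext S.X₃ M 1) _ _)
  obtain ⟨f, rfl⟩ := Ext.homEquiv₀.symm.surjective x
  simp only [Ext.homEquiv₀_symm_apply, Ext.mk₀_comp_mk₀] at hx
  have hfg := Ext.homEquiv₀.symm.injective (a₁ := S.f ≫ f) (a₂ := ModuleCat.ofHom g)
    (by simpa using hx)
  refine ⟨f.hom, fun x hx => ?_⟩
  exact congr($(hfg).hom ⟨x, hx⟩)

/-- Criterion for injective dimension `≤ n` via `Ext^(n+1)(A/I, -)`. -/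
theorem hasInjectiveDimensionLT_of_subsingleton_ext (n : ℕ) (M : ModuleCat.{u} A)
    (h : ∀ I : Ideal A, Subsingleton (Ext (ModuleCat.of A (A ⧸ I)) M (n + 1))) :
    HasInjectiveDimensionLT M (n + 1) := by
  induction n generalizing M with
  | zero =>
    rw [zero_add, ← injective_iff_hasInjectiveDimensionLT_one,
      ← Module.injective_iff_injective_object A M, ← Module.Baer.iff_injective]
    exact baer_of_subsingleton_ext_one M h
  | succ n ih =>
    let ⟨J, _, f, _⟩ := EnoughInjectives.presentation M
    have injf : Function.Injective f.hom := (ModuleCat.mono_iff_injective f).mp ‹_›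
    let S : ShortComplex (ModuleCat.{u} A) :=
      ModuleCat.shortComplexOfCompEqZero _ _ f.hom.exact_map_mkQ_range.linearMap_comp_eq_zero
    have hS := ModuleCat.shortComplex_shortExact S
      f.hom.exact_map_mkQ_range injf (Submodule.mkQ_surjective _)
    rw [← hS.hasInjectiveDimensionLT_X₃_iff n (inferInstance : Injective J)]
    refine ih _ fun I => subsingleton_of_forall_eq 0 fun x => ?_
    have := h I
    obtain ⟨y, hy⟩ := Ext.covariant_sequence_exact₃ _ hS x (rfl : n + 1 + 1 = _)
      (Subsingleton.elim (α := Ext (ModuleCat.of A (A ⧸ I)) M (n + 1 + 1)) _ _)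
    rw [← hy, show y = 0 from Ext.eq_zero_of_injective (I := J) y, Ext.zero_comp]

/-- If every cyclic module has projective dimension `≤ n` then every module has. -/
theorem hasProjectiveDimensionLT_of_forall_cyclic (n : ℕ)
    (h : ∀ I : Ideal A, HasProjectiveDimensionLT (ModuleCat.of A (A ⧸ I)) (n + 1))
    (M : ModuleCat.{u} A) : HasProjectiveDimensionLT M (n + 1) := by
  rw [hasProjectiveDimensionLT_iff]
  intro i hi N e
  have : HasInjectiveDimensionLT N (n + 1) :=
    hasInjectiveDimensionLT_of_subsingleton_ext n N fun I =>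
      HasProjectiveDimensionLT.subsingleton (hX := h I) _ _ _ le_rfl _
  exact e.eq_zero_of_hasInjectiveDimensionLT (n + 1) hi

/-- Over a Noetherian ring, if `Ext^i(M, A/p) = 0` for all primes `p`, then `Ext^i(M, N) = 0` for
every finite module `N`. -/
theorem subsingleton_ext_finite [IsNoetherianRing A] (i : ℕ) (M : ModuleCat.{u} A)
    (h : ∀ p : PrimeSpectrum A, Subsingleton (Ext M (ModuleCat.of A (A ⧸ p.asIdeal)) i))
    (N : Type u) [AddCommGroup N] [Module A N] [Module.Finite A N] :
    Subsingleton (Ext M (ModuleCat.of A N) i) := by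
  induction ‹Module.Finite A N› using
    IsNoetherianRing.induction_on_isQuotientEquivQuotientPrime A with
  | subsingleton N =>
    refine subsingleton_of_forall_eq 0 fun x => ?_
    have h0 : Limits.IsZero (ModuleCat.of A N) := ModuleCat.isZero_of_subsingleton _
    rw [← x.comp_mk₀_id, h0.eq_zero_of_tgt (𝟙 _), Ext.mk₀_zero, Ext.comp_zero]
  | quotient N p f =>
    have := h p
    refine subsingleton_of_forall_eq 0 fun x => ?_
    have h1 : x.comp (Ext.mk₀ f.toModuleIso.hom) (add_zero i) = 0 := Subsingleton.elim _ _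
    have h2 := congr($(h1).comp (Ext.mk₀ f.toModuleIso.inv) (add_zero i))
    rw [Ext.comp_assoc_of_second_deg_zero, Ext.mk₀_comp_mk₀, f.toModuleIso.hom_inv_id, Ext.comp_mk₀_id,
      Ext.zero_comp] at h2
    exact h2
  | exact N₁ N₂ N₃ f g hf hg hfg h₁ h₃ =>
    let S : ShortComplex (ModuleCat.{u} A) :=
      ModuleCat.shortComplexOfCompEqZero f g hfg.linearMap_comp_eq_zero
    have hS : S.ShortExact := ModuleCat.shortComplex_shortExact S hfg hf hg
    refine subsingleton_of_forall_eq 0 fun x => ?_
    obtain ⟨y, hy⟩ := Ext.covariant_sequence_exact₂ M hS x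
      (Subsingleton.elim (α := Ext M (ModuleCat.of A N₃) i) _ _)
    rw [← hy, show y = 0 from Subsingleton.elim (α := Ext M (ModuleCat.of A N₁) i) _ _,
      Ext.zero_comp]

/-- For a finite module over a Noetherian ring, projective dimension `≤ n` is detected by
`Ext^(n+1)(M, -)` on finite modules. -/
theorem hasProjectiveDimensionLT_of_subsingleton_ext_finite [IsNoetherianRing A] (n : ℕ)
    (M : ModuleCat.{u} A) [Module.Finite A M]
    (h : ∀ (N : ModuleCat.{u} A), Module.Finite A N → Subsingleton (Ext M N (n + 1))) :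
    HasProjectiveDimensionLT M (n + 1) := by
  induction n generalizing M with
  | zero =>
    obtain ⟨m, π, hπ⟩ := Module.Finite.exists_fin' A M
    let S : ShortComplex (ModuleCat.{u} A) := ModuleCat.shortComplexOfCompEqZero
      π.ker.subtype π (LinearMap.exact_subtype_ker_map π).linearMap_comp_eq_zero
    have hS : S.ShortExact := ModuleCat.shortComplex_shortExact S
      (LinearMap.exact_subtype_ker_map π) π.ker.injective_subtype hπ
    have hP : Projective S.X₂ := (IsProjective.iff_projective (P := Fin m → A)).1 inferInstance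
    obtain ⟨s, hs⟩ : ∃ s : M ⟶ S.X₂, s ≫ S.g = 𝟙 M := by
      have := h S.X₁ (inferInstanceAs (Module.Finite A π.ker))
      obtain ⟨x, hx⟩ := Ext.covariant_sequence_exact₃ M hS (Ext.mk₀ (𝟙 M : M ⟶ S.X₃))
        (zero_add 1) (Subsingleton.elim (α := Ext M S.X₁ 1) _ _)
      obtain ⟨s, rfl⟩ := Ext.homEquiv₀.symm.surjective x
      exact ⟨s, Ext.homEquiv₀.symm.injective (by simpa using hx)⟩
    rw [zero_add, ← projective_iff_hasProjectiveDimensionLT_one]
    exact (Retract.mk s S.g hs).projective
  | succ n ih =>
    obtain ⟨m, π, hπ⟩ := Module.Finite.exists_fin' A M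
    let S : ShortComplex (ModuleCat.{u} A) := ModuleCat.shortComplexOfCompEqZero
      π.ker.subtype π (LinearMap.exact_subtype_ker_map π).linearMap_comp_eq_zero
    have hS : S.ShortExact := ModuleCat.shortComplex_shortExact S
      (LinearMap.exact_subtype_ker_map π) π.ker.injective_subtype hπ
    have hP : Projective S.X₂ := (IsProjective.iff_projective (P := Fin m → A)).1 inferInstance
    refine (hS.hasProjectiveDimensionLT_X₃_iff n hP).2 ?_
    have hfin : Module.Finite A S.X₁ := inferInstanceAs (Module.Finite A π.ker)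
    have h' : ∀ (N : ModuleCat.{u} A), Module.Finite A N → Subsingleton (Ext S.X₁ N (n + 1)) := by
      intro N hN
      refine subsingleton_of_forall_eq 0 fun x => ?_
      have := h N hN
      obtain ⟨y, hy⟩ := Ext.contravariant_sequence_exact₁ hS N x (by omega : 1 + (n + 1) = n + 1 + 1)
        (Subsingleton.elim (α := Ext M N (n + 1 + 1)) _ _)
      rw [← hy, Ext.eq_zero_of_projective y, Ext.comp_zero]
    exact ih S.X₁ h'

end Groth.Agent.HomDim
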