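import Groth.Agent.Lib.RegLoc.GlobalDim
import Mathlib.RingTheory.LocalProperties.ProjectiveDimension
import Mathlib.RingTheory.Localization.Free
import Mathlib.RingTheory.Localization.BaseChange
import Mathlib.RingTheory.RegularLocalRing.Defs
import Mathlib.RingTheory.Spectrum.Prime.Topology
import Mathlib.RingTheory.Support
import Mathlib.RingTheory.LocalRing.Module

/-!
# Projective dimension spreads out
-/

universe u

open CategoryTheory

noncomputable section

namespace Groth.Agent.HomDim

variable {R : Type u} [CommRing R]

/-- The shrunk localized module is the localized module. -/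
def locIso (S : Submonoid R) (M : Type u) [AddCommGroup M] [Module R M] :
    (ModuleCat.of R M).localizedModule S ≅ ModuleCat.of (Localization S) (LocalizedModule S M) :=
  (Shrink.linearEquiv.{u} (Localization S) (LocalizedModule S M)).toModuleIso

theorem hasPD_of_iso_iff {A : Type u} [CommRing A] {X Y : ModuleCat.{u} A} (e : X ≅ Y) (n : ℕ) :
    HasProjectiveDimensionLT X n ↔ HasProjectiveDimensionLT Y n :=
  ⟨fun _ => hasProjectiveDimensionLT_of_iso e n, fun _ => hasProjectiveDimensionLT_of_iso e.symm n⟩

theorem projective_iff_zero (S : Submonoid R) (M : Type u) [AddCommGroup M] [Module R M] :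
    HasProjectiveDimensionLE ((ModuleCat.of R M).localizedModule S) 0 ↔
      Module.Projective (Localization S) (LocalizedModule S M) := by
  rw [HasProjectiveDimensionLE, hasPD_of_iso_iff (locIso S M), zero_add,
    ← projective_iff_hasProjectiveDimensionLT_one, ← IsProjective.iff_projective]

theorem succ_iff (S : Submonoid R) {P M : Type u} [AddCommGroup P] [Module R P] [Module.Free R P]
    [AddCommGroup M] [Module R M] {f : P →ₗ[R] M} (hf : Function.Surjective f) (n : ℕ) :
    HasProjectiveDimensionLE ((ModuleCat.of R M).localizedModule S) (n + 1) ↔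
      HasProjectiveDimensionLE ((ModuleCat.of R (LinearMap.ker f)).localizedModule S) n := by
  have hS := LinearMap.shortExact_shortComplexKer hf
  have hP : Projective (ModuleCat.of R P) := (IsProjective.iff_projective P).1 inferInstance
  have hS' := hS.map_of_exact (ModuleCat.localizedModuleFunctor.{u} S)
  exact hS'.hasProjectiveDimensionLT_X₃_iff n
    ((ModuleCat.localizedModuleFunctor.{u} S).projective_obj_of_projective hP)

variable [IsNoetherianRing R] (p : Ideal R) [p.IsPrime]

theorem exists_away (n : ℕ) : ∀ (M : Type u) [AddCommGroup M] [Module R M] [Module.Finite R M],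
    HasProjectiveDimensionLE ((ModuleCat.of R M).localizedModule p.primeCompl) n →
      ∃ s ∉ p, HasProjectiveDimensionLE ((ModuleCat.of R M).localizedModule (Submonoid.powers s)) n := by
  induction n with
  | zero =>
    intro M _ _ _ h
    rw [projective_iff_zero] at h
    have : Module.Finite (Localization.AtPrime p) (LocalizedModule p.primeCompl M) :=
      Module.Finite.of_isLocalizedModule p.primeCompl (Rₚ := Localization.AtPrime p)
        (LocalizedModule.mkLinearMap p.primeCompl M)
    have : Module.Projective (Localization.AtPrime p) (LocalizedModule p.primeCompl M) := h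
    have : Module.Free (Localization.AtPrime p) (LocalizedModule p.primeCompl M) :=
      Module.free_of_flat_of_isLocalRing
    have : Module.FinitePresentation R M := Module.finitePresentation_of_finite R M
    obtain ⟨r, hr, hfree, -⟩ := Module.FinitePresentation.exists_free_localizedModule_powers
      p.primeCompl (LocalizedModule.mkLinearMap p.primeCompl M) (Localization.AtPrime p)
    exact ⟨r, hr, (projective_iff_zero _ M).2 (Module.Projective.of_free)⟩
  | succ n ih =>
    intro M _ _ _ h
    rcases Module.exists_finite_presentation R M with ⟨P, _, _, _, _, f, hf⟩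
    obtain ⟨s, hs, hK⟩ := ih _ ((succ_iff p.primeCompl hf n).1 h)
    exact ⟨s, hs, (succ_iff _ hf n).2 hK⟩

theorem atPrime_of_away {s : R} (hs : s ∉ p) (n : ℕ) :
    ∀ (M : Type u) [AddCommGroup M] [Module R M] [Module.Finite R M],
      HasProjectiveDimensionLE ((ModuleCat.of R M).localizedModule (Submonoid.powers s)) n →
        HasProjectiveDimensionLE ((ModuleCat.of R M).localizedModule p.primeCompl) n := by
  induction n with
  | zero =>
    intro M _ _ _ h
    rw [projective_iff_zero] at h ⊢
    let A := Localization.Away s
    let B := Localization.AtPrime p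
    let φ : A →+* B := IsLocalization.Away.lift s (g := algebraMap R B)
      (IsLocalization.map_units B (⟨s, hs⟩ : p.primeCompl))
    let : Algebra A B := φ.toAlgebra
    have : IsScalarTower R A B := IsScalarTower.of_algebraMap_eq fun x =>
      (IsLocalization.Away.lift_eq s _ x).symm
    let : Module A (LocalizedModule p.primeCompl M) := Module.compHom _ φ
    have : IsScalarTower A B (LocalizedModule p.primeCompl M) := ⟨fun a b x => by
      change (φ a * b) • x = φ a • b • x
      rw [mul_smul]⟩
    have : IsScalarTower R A (LocalizedModule p.primeCompl M) := IsScalarTower.of_algebraMap_smul fun r x => by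
      change φ (algebraMap R A r) • x = r • x
      rw [IsLocalization.Away.lift_eq, algebraMap_smul]
    have hsub : ∀ x : Submonoid.powers s,
        IsUnit (algebraMap R (Module.End R (LocalizedModule p.primeCompl M)) x) := fun x =>
      IsLocalizedModule.map_units (LocalizedModule.mkLinearMap p.primeCompl M)
        ⟨x, Submonoid.powers_le.2 (show s ∈ p.primeCompl from hs) x.2⟩
    let g₀ := IsLocalizedModule.lift (Submonoid.powers s) (LocalizedModule.mkLinearMap (Submonoid.powers s) M)
      (LocalizedModule.mkLinearMap p.primeCompl M) hsub
    let g : LocalizedModule (Submonoid.powers s) M →ₗ[A] LocalizedModule p.primeCompl M :=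
      g₀.extendScalarsOfIsLocalization (Submonoid.powers s) A
    have hg : IsBaseChange B g := by
      refine IsBaseChange.of_comp (f := LocalizedModule.mkLinearMap (Submonoid.powers s) M)
        (IsLocalizedModule.isBaseChange (Submonoid.powers s) A _) ?_
      have hcomp : ((g : _ →ₗ[R] LocalizedModule p.primeCompl M) ∘ₗ
          LocalizedModule.mkLinearMap (Submonoid.powers s) M) = LocalizedModule.mkLinearMap p.primeCompl M :=
        IsLocalizedModule.lift_comp _ _ _ hsub
      rw [hcomp]
      exact IsLocalizedModule.isBaseChange p.primeCompl B _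
    have : Module.Projective A (LocalizedModule (Submonoid.powers s) M) := h
    exact Module.Projective.of_equiv hg.equiv
  | succ n ih =>
    intro M _ _ _ h
    rcases Module.exists_finite_presentation R M with ⟨P, _, _, _, _, f, hf⟩
    exact (succ_iff p.primeCompl hf n).2 (ih _ ((succ_iff _ hf n).1 h))

omit [IsNoetherianRing R] in
theorem pd_eq (S : Submonoid R) (M : Type u) [AddCommGroup M] [Module R M] :
    projectiveDimension ((ModuleCat.of R M).localizedModule S) =
      projectiveDimension (ModuleCat.of (Localization S) (LocalizedModule S M)) :=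
  projectiveDimension_eq_of_iso (locIso S M)

theorem exists_away_eq (M : Type u) [AddCommGroup M] [Module R M] [Module.Finite R M]
    (hfin : projectiveDimension (ModuleCat.of (Localization.AtPrime p) (LocalizedModule p.primeCompl M)) ≠ ⊤) :
    ∃ s : R, s ∉ p ∧ projectiveDimension (ModuleCat.of (Localization.Away s) (LocalizedModule (Submonoid.powers s) M)) =
      projectiveDimension (ModuleCat.of (Localization.AtPrime p) (LocalizedModule p.primeCompl M)) := by
  have key : ∀ s ∉ p, ∀ k : ℕ, projectiveDimension (ModuleCat.of (Localization (Submonoid.powers s)) (LocalizedModule (Submonoid.powers s) M)) ≤ k →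
      projectiveDimension (ModuleCat.of (Localization p.primeCompl) (LocalizedModule p.primeCompl M)) ≤ k := by
    intro s hs k hk
    rw [← pd_eq, projectiveDimension_le_iff] at hk ⊢
    exact atPrime_of_away p hs k M hk
  change projectiveDimension (ModuleCat.of (Localization p.primeCompl) (LocalizedModule p.primeCompl M)) ≠ ⊤ at hfin
  change ∃ s : R, s ∉ p ∧ projectiveDimension (ModuleCat.of (Localization (Submonoid.powers s)) (LocalizedModule (Submonoid.powers s) M)) =
      projectiveDimension (ModuleCat.of (Localization p.primeCompl) (LocalizedModule p.primeCompl M))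
  by_cases hz : Subsingleton (LocalizedModule p.primeCompl M)
  · obtain ⟨s, hs, hs'⟩ := LocalizedModule.exists_subsingleton_away (R := R) (M := M) p
    refine ⟨s, hs, ?_⟩
    rw [(projectiveDimension_eq_bot_iff _).2 (ModuleCat.isZero_of_subsingleton _),
      (projectiveDimension_eq_bot_iff _).2 (ModuleCat.isZero_of_subsingleton _)]
  cases hd : projectiveDimension (ModuleCat.of (Localization p.primeCompl) (LocalizedModule p.primeCompl M)) with
  | bot => exact absurd (ModuleCat.subsingleton_of_isZero ((projectiveDimension_eq_bot_iff _).1 hd)) hz
  | coe e =>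
    rw [hd] at hfin
    lift e to ℕ using fun h => hfin (by rw [h]; rfl) with n
    have hn := hd.le
    rw [← pd_eq] at hn
    obtain ⟨s, hs, hle⟩ := exists_away p n M ((projectiveDimension_le_iff _ _).1 hn)
    refine ⟨s, hs, le_antisymm ?_ (not_lt.1 fun hlt => ?_)⟩
    · rw [← pd_eq]
      exact (projectiveDimension_le_iff _ _).2 hle
    · rcases n with _ | m
      · refine hz ?_
        cases hd' : projectiveDimension (ModuleCat.of (Localization (Submonoid.powers s)) (LocalizedModule (Submonoid.powers s) M)) with
        | bot =>
          have := ModuleCat.subsingleton_of_isZero ((projectiveDimension_eq_bot_iff _).1 hd')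
          refine LocalizedModule.subsingleton_iff.2 fun m => ?_
          obtain ⟨r, hr, hrm⟩ := LocalizedModule.subsingleton_iff.1 this m
          exact ⟨r, Submonoid.powers_le.2 (show s ∈ p.primeCompl from hs) hr, hrm⟩
        | coe e' =>
          rw [hd'] at hlt
          exact absurd (WithBot.coe_lt_coe.1 hlt) not_lt_bot
      · have hle' : projectiveDimension (ModuleCat.of (Localization (Submonoid.powers s)) (LocalizedModule (Submonoid.powers s) M)) ≤ (m : ℕ) := by
          rw [← pd_eq]
          refine (projectiveDimension_le_iff _ _).2 ?_
          rw [← pd_eq] at hlt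
          exact projectiveDimension_lt_iff.1 hlt
        have := key s hs m hle'
        rw [hd] at this
        have := Nat.cast_le.1 (WithBot.coe_le_coe.1 this)
        omega

theorem exists_hasProjectiveDimensionLE_of_regular (A : Type u) [CommRing A] [IsRegularRing A] (M : Type u)
    [AddCommGroup M] [Module A M] [Module.Finite A M] :
    ∃ d : ℕ, HasProjectiveDimensionLE (ModuleCat.of A M) d := by
  have hpt : ∀ p : PrimeSpectrum A, ∃ s ∉ p.asIdeal, ∃ n : ℕ,
      HasProjectiveDimensionLE ((ModuleCat.of A M).localizedModule (Submonoid.powers s)) n := fun p => by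
    obtain ⟨s, hs, h⟩ := exists_away p.asIdeal (IsLocalRing.maximalIdeal (Localization.AtPrime p.asIdeal)).spanFinrank M
      (Groth.Agent.RegLoc.hasProjectiveDimensionLT_of_regular (R := Localization.AtPrime p.asIdeal) rfl _)
    exact ⟨s, hs, _, h⟩
  choose s hs n hn using hpt
  obtain ⟨t, ht⟩ := isCompact_univ.elim_finite_subcover (fun p => (PrimeSpectrum.basicOpen (s p) : Set (PrimeSpectrum A)))
    (fun p => PrimeSpectrum.isOpen_basicOpen) fun p _ => Set.mem_iUnion.2 ⟨p, hs p⟩
  refine ⟨t.sup n, ((ModuleCat.of A M).hasProjectiveDimensionLE_iff_forall_primeSpectrum _).2 fun q => ?_⟩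
  obtain ⟨p, hp, hq⟩ := Set.mem_iUnion₂.1 (ht (Set.mem_univ q))
  have h1 := atPrime_of_away q.asIdeal (show s p ∉ q.asIdeal from hq) (n p) M (hn p)
  exact @hasProjectiveDimensionLT_of_ge _ _ _ _ (n p + 1) _ (by have := Finset.le_sup (f := n) hp; omega) h1

end Groth.Agent.HomDim
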