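import Groth.Agent.Lib.HomDim.Vasconcelos
import Mathlib.RingTheory.Localization.Algebra
import Mathlib.RingTheory.Localization.AtPrime.Basic
import Mathlib.RingTheory.Localization.Ideal

/-!
# Regular ideals: spreading from a localization
-/

universe u

open IsLocalRing RingTheory.Sequence Groth.Agent.RegLoc
open scoped Pointwise

noncomputable section

namespace Groth.Agent.Vasc

theorem isWeaklyRegular_ofFn_iff {A : Type u} [CommRing A] {r : ℕ} (x : Fin r → A) :
    IsWeaklyRegular A (List.ofFn x) ↔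
      ∀ i, ∀ a, x i * a ∈ Ideal.span (x '' {j | j < i}) → a ∈ Ideal.span (x '' {j | j < i}) := by
  have hspan : ∀ i : Fin r, Ideal.ofList ((List.ofFn x).take i) = Ideal.span (x '' {j | j < i}) := fun i => by
    rw [Ideal.ofList]
    congr 1
    ext a
    simp only [Set.mem_setOf_eq, List.mem_take_iff_getElem, List.getElem_ofFn, List.length_ofFn, Set.mem_image]
    exact ⟨fun ⟨j, hj, h⟩ => ⟨⟨j, by omega⟩, show j < (i : ℕ) by omega, h⟩,
      fun ⟨j, hj, h⟩ => ⟨j, by have : (j : ℕ) < i := hj; omega, h⟩⟩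
  have key : ∀ (i : ℕ) (hi : i < r), IsSMulRegular (A ⧸ (Ideal.ofList ((List.ofFn x).take i) • ⊤ : Submodule A A))
      (x ⟨i, hi⟩) ↔ ∀ a, x ⟨i, hi⟩ * a ∈ Ideal.span (x '' {j | j < (⟨i, hi⟩ : Fin r)}) →
        a ∈ Ideal.span (x '' {j | j < (⟨i, hi⟩ : Fin r)}) := fun i hi => by
    rw [← hspan ⟨i, hi⟩, isSMulRegular_iff_right_eq_zero_of_smul]
    have htop : ∀ J : Ideal A, (J • ⊤ : Submodule A A) = J := fun J => by rw [smul_eq_mul, Ideal.mul_top]
    constructor
    · intro h a ha
      rw [← htop (Ideal.ofList _), ← Submodule.Quotient.mk_eq_zero]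
      refine h (Submodule.Quotient.mk a) ?_
      rw [← Submodule.Quotient.mk_smul, Submodule.Quotient.mk_eq_zero, htop]
      exact ha
    · intro h z hz
      obtain ⟨a, rfl⟩ := Submodule.Quotient.mk_surjective _ z
      rw [← Submodule.Quotient.mk_smul, Submodule.Quotient.mk_eq_zero, htop] at hz
      rw [Submodule.Quotient.mk_eq_zero, htop]
      exact h a hz
  rw [isWeaklyRegular_iff]
  constructor
  · intro h i
    have := h i (by rw [List.length_ofFn]; exact i.2)
    rw [List.getElem_ofFn] at this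
    exact (key i i.2).1 this
  · intro h i hi
    rw [List.getElem_ofFn]
    exact (key i (by rwa [List.length_ofFn] at hi)).2 (h _)

variable {R : Type u} [CommRing R] [IsNoetherianRing R]

theorem exists_local_regular_sequence (I : Ideal R) {n : ℕ} (hpd : PD R I n)
    [Module.Projective (R ⧸ I) I.Cotangent] (p : Ideal R) [p.IsPrime] (hIp : I ≤ p) :
    ∃ (r : ℕ) (y : Fin r → R), (∀ i, y i ∈ I) ∧
      IsWeaklyRegular (Localization.AtPrime p) (List.ofFn fun i => algebraMap R (Localization.AtPrime p) (y i)) ∧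
      Ideal.span (Set.range fun i => algebraMap R (Localization.AtPrime p) (y i)) =
        I.map (algebraMap R (Localization.AtPrime p)) := by
  classical
  let S := p.primeCompl
  let A := Localization.AtPrime p
  let Ip : Ideal A := I.map (algebraMap R A)
  let Q := A ⧸ Ip
  have hIp' : Ip ≠ ⊤ := ne_top_of_le_ne_top (maximalIdeal.isMaximal A).ne_top
    ((Ideal.map_mono hIp).trans Localization.AtPrime.map_eq_maximalIdeal.le)
  have : Nontrivial Q := Ideal.Quotient.nontrivial_iff.2 hIp'
  have : IsLocalRing Q := .of_surjective' _ Ideal.Quotient.mk_surjective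
  let f : ↥I →ₗ[R] ↥Ip := Algebra.idealMap I (S := A)
  have hfl : IsLocalizedModule S f := inferInstance
  have hpd' : PD A ↥Ip n := by
    refine (pd_localizedModule S ↥I hpd).congr ?_
    exact LinearEquiv.extendScalarsOfIsLocalization S A (IsLocalizedModule.iso S f)
  -- dual basis of the conormal module
  have : Module.Finite R I.Cotangent := Module.Finite.of_surjective I.toCotangent I.toCotangent_surjective
  have : Module.Finite (R ⧸ I) I.Cotangent := Module.Finite.of_restrictScalars_finite R _ _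
  obtain ⟨m, P, hP⟩ := Module.Finite.exists_fin' (R ⧸ I) I.Cotangent
  obtain ⟨s, hs⟩ := Module.projective_lifting_property P LinearMap.id hP
  choose g hg using fun j : Fin m => Ideal.toCotangent_surjective I (P (Pi.single j 1))
  let ιq : R ⧸ I →ₗ[R] Q :=
    Submodule.liftQ I ((Ideal.Quotient.mkₐ R Ip).toLinearMap ∘ₗ Algebra.linearMap R A) fun c hc => by
      rw [LinearMap.mem_ker]
      exact Ideal.Quotient.eq_zero_iff_mem.2 (Ideal.mem_map_of_mem _ hc)
  let φ : ↥I →ₗ[R] Fin m → Q := LinearMap.pi fun j =>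
    ιq ∘ₗ (LinearMap.proj j : (Fin m → R ⧸ I) →ₗ[R] R ⧸ I) ∘ₗ s.restrictScalars R ∘ₗ I.toCotangent
  have hunit : ∀ x : S, IsUnit (algebraMap R (Module.End R (Fin m → Q)) x) := fun x => by
    rw [Module.End.isUnit_iff]
    obtain ⟨u, hu⟩ : IsUnit (algebraMap R A (x : R)) := IsLocalization.map_units A x
    refine Function.bijective_iff_has_inverse.2 ⟨fun v => (↑u⁻¹ : A) • v, fun v => ?_, fun v => ?_⟩
    · change (↑u⁻¹ : A) • ((x : R) • v) = v
      rw [← algebraMap_smul A (x : R) v, smul_smul, ← hu, Units.inv_mul, one_smul]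
    · change (x : R) • ((↑u⁻¹ : A) • v) = v
      rw [← algebraMap_smul A (x : R) ((↑u⁻¹ : A) • v), smul_smul, ← hu, Units.mul_inv, one_smul]
  let φp : ↥Ip →ₗ[A] Fin m → Q :=
    (IsLocalizedModule.lift S f φ hunit).extendScalarsOfIsLocalization S A
  have hφp : ∀ y, φp (f y) = φ y := fun y => LinearMap.congr_fun (IsLocalizedModule.lift_comp S f φ hunit) y
  have hkill : Ip • (⊤ : Submodule A ↥Ip) ≤ LinearMap.ker φp := Submodule.smul_le.2 fun a ha z _ => by
    rw [LinearMap.mem_ker, map_smul]
    funext j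
    change Ideal.Quotient.mk Ip a * φp z j = 0
    rw [Ideal.Quotient.eq_zero_iff_mem.2 ha, zero_mul]
  have : IsScalarTower A Q Ip.Cotangent := inferInstanceAs (IsScalarTower A (A ⧸ Ip) Ip.Cotangent)
  let σ₀ : Ip.Cotangent →ₗ[A] Fin m → Q := Submodule.liftQ _ φp hkill
  let σ : Ip.Cotangent →ₗ[Q] Fin m → Q :=
    LinearMap.extendScalarsOfSurjective Ideal.Quotient.mk_surjective σ₀
  let τ : (Fin m → Q) →ₗ[Q] Ip.Cotangent := Fintype.linearCombination Q fun j => Ip.toCotangent (f (g j))
  have hτσ : τ ∘ₗ σ = LinearMap.id := by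
    refine LinearMap.ext fun z => ?_
    obtain ⟨w, rfl⟩ := Ideal.toCotangent_surjective Ip z
    obtain ⟨⟨y, t⟩, ht⟩ := IsLocalizedModule.surj S f w
    have key : τ (σ (Ip.toCotangent (f y))) = Ip.toCotangent (f y) := by
      change τ (φp (f y)) = _
      rw [hφp]
      let d : Fin m → R ⧸ I := s (I.toCotangent y)
      choose c hc using fun j => Ideal.Quotient.mk_surjective (d j)
      have h1 : φ y = fun j => algebraMap R Q (c j) := funext fun j => by
        change ιq (d j) = _
        rw [← hc j]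
        rfl
      have h2 : I.toCotangent y = I.toCotangent (∑ j, c j • g j) := by
        rw [map_sum]
        refine (LinearMap.congr_fun hs _).symm.trans ?_
        change P d = _
        rw [pi_eq_sum_univ' d, map_sum]
        refine Finset.sum_congr rfl fun j _ => ?_
        rw [map_smul, map_smul, hg, ← hc j]
        exact algebraMap_smul (R ⧸ I) (c j) _
      rw [h1, Fintype.linearCombination_apply]
      have h4 : ∀ (a : R) (z : Ip.Cotangent), algebraMap R Q a • z = algebraMap R A a • z := fun a z =>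
        algebraMap_smul Q (algebraMap R A a) z
      simp only [h4, ← map_smul]
      simp only [algebraMap_smul, ← map_smul]
      rw [← map_sum, ← map_sum]
      rw [Ideal.toCotangent_eq] at h2 ⊢
      have h3 := Ideal.mem_map_of_mem (algebraMap R A) h2
      rw [Ideal.map_pow, map_sub] at h3
      rw [← neg_sub] at h3
      exact neg_mem_iff.1 h3
    have hu : IsUnit (algebraMap R A (t : R)) := IsLocalization.map_units A t
    rw [LinearMap.id_apply]
    obtain ⟨u, hu⟩ := hu
    have ht' : w = (↑u⁻¹ : A) • f y := by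
      rw [← ht, Submonoid.smul_def, ← algebraMap_smul A (t : R) w, smul_smul, ← hu, Units.inv_mul, one_smul]
    rw [ht', map_smul, LinearMap.map_smul_of_tower, LinearMap.comp_apply, key]
  have : Module.Projective Q Ip.Cotangent := Module.Projective.of_split σ τ hτσ
  have : Module.Finite A Ip.Cotangent := Module.Finite.of_surjective Ip.toCotangent Ip.toCotangent_surjective
  have : Module.Finite Q Ip.Cotangent := Module.Finite.of_restrictScalars_finite A _ _
  have : Module.Free Q Ip.Cotangent := Module.free_of_flat_of_isLocalRing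
  let e : (⊤ : Submodule Q Ip.Cotangent) ≃ₗ[Q] (Fin (Module.finrank Q Ip.Cotangent) → Q) :=
    Submodule.topEquiv.trans (Module.finBasis Q Ip.Cotangent).equivFun
  obtain ⟨x, hx, hreg, hspan⟩ := exists_of_summand (R := A) Ip hIp'
    (n := n + 1) hpd' ⊤ ⊥ isCompl_top_bot _ e
  have hgen : Ideal.span (Set.range x) = Ip := by
    refine le_antisymm (Ideal.span_le.2 (by rintro _ ⟨i, rfl⟩; exact hx i)) ?_
    refine Submodule.le_of_le_smul_of_le_jacobson_bot (IsNoetherian.noetherian Ip) (I := Ip)
      ((le_maximalIdeal hIp').trans (jacobson_eq_maximalIdeal ⊥ bot_ne_top).ge) ?_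
    intro z hz
    have hmem : ∀ z ∈ Submodule.span Q (Set.range fun i => Ip.toCotangent ⟨x i, hx i⟩),
        z ∈ Submodule.map Ip.toCotangent (Submodule.comap (Ip.subtype) (Ideal.span (Set.range x))) := by
      intro z hz
      induction hz using Submodule.span_induction with
      | mem z hz =>
        obtain ⟨i, rfl⟩ := hz
        exact Submodule.mem_map_of_mem (f := Ip.toCotangent)
          (show (⟨x i, hx i⟩ : ↥Ip) ∈ Submodule.comap Ip.subtype (Ideal.span (Set.range x)) from
            Ideal.subset_span ⟨i, rfl⟩)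
      | zero => exact zero_mem _
      | add a b _ _ ha hb => exact add_mem ha hb
      | smul c a _ ha =>
        obtain ⟨c, rfl⟩ := Ideal.Quotient.mk_surjective c
        rw [← Ideal.Quotient.algebraMap_eq, algebraMap_smul]
        exact Submodule.smul_mem _ c ha
    obtain ⟨w, hw, hwz⟩ := hmem (Ip.toCotangent ⟨z, hz⟩) (hspan.symm ▸ trivial)
    rw [Ideal.toCotangent_eq, sq] at hwz
    rw [Submodule.mem_sup]
    refine ⟨w, hw, z - w, ?_, by abel⟩
    rw [smul_eq_mul, ← neg_sub]
    exact neg_mem hwz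
  -- clear denominators
  have hnum : ∀ i, ∃ y ∈ I, ∃ u : Aˣ, algebraMap R A y = x i * u := fun i => by
    obtain ⟨⟨⟨y, hy⟩, t⟩, h⟩ := (IsLocalization.mem_map_algebraMap_iff S A).1 (hx i)
    obtain ⟨u, hu⟩ : IsUnit (algebraMap R A (t : R)) := IsLocalization.map_units A t
    exact ⟨y, hy, u, by rw [hu]; exact h.symm⟩
  choose y hy u hu using hnum
  have hsame : ∀ T : Set (Fin (Module.finrank Q Ip.Cotangent)),
      Ideal.span ((fun i => algebraMap R A (y i)) '' T) = Ideal.span (x '' T) := fun T => by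
    refine le_antisymm ?_ ?_ <;> rw [Ideal.span_le] <;> rintro _ ⟨i, hi, rfl⟩
    · rw [SetLike.mem_coe]
      change algebraMap R A (y i) ∈ _
      rw [hu]
      exact Ideal.mul_mem_right _ _ (Ideal.subset_span ⟨i, hi, rfl⟩)
    · have : x i = algebraMap R A (y i) * ↑(u i)⁻¹ := by rw [hu, mul_assoc, Units.mul_inv, mul_one]
      rw [SetLike.mem_coe, this]
      exact Ideal.mul_mem_right _ _ (Ideal.subset_span ⟨i, hi, rfl⟩)
  refine ⟨_, y, hy, ?_, ?_⟩
  · rw [isWeaklyRegular_ofFn_iff]
    intro i a ha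
    have hr := (isWeaklyRegular_ofFn_iff x).1 hreg.toIsWeaklyRegular i (u i * a)
    rw [hsame] at ha ⊢
    have h2 := hr (by rw [← mul_assoc, ← hu]; exact ha)
    exact (Ideal.unit_mul_mem_iff_mem _ (u i).isUnit).1 h2
  · rw [← Set.image_univ, hsame, Set.image_univ]
    exact hgen

omit [IsNoetherianRing R] in
theorem exists_mul_mem_span {p : Ideal R} [p.IsPrime] {T : Set R} {a : R}
    (ha : algebraMap R (Localization.AtPrime p) a ∈ Ideal.span (algebraMap R (Localization.AtPrime p) '' T)) :
    ∃ s ∉ p, s * a ∈ Ideal.span T := by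
  rw [← Ideal.map_span] at ha
  obtain ⟨⟨⟨b, hb⟩, t⟩, h⟩ := (IsLocalization.mem_map_algebraMap_iff p.primeCompl _).1 ha
  obtain ⟨c, hc⟩ := (IsLocalization.eq_iff_exists p.primeCompl (Localization.AtPrime p)).1
    (show algebraMap R (Localization.AtPrime p) (a * t) = algebraMap R _ b by rw [map_mul]; exact h)
  refine ⟨c * t, p.primeCompl.mul_mem c.2 t.2, ?_⟩
  rw [show ((c : R) * t) * a = c * (a * t) by ring, hc]
  exact Ideal.mul_mem_left _ _ hb

theorem exists_away_regular (I : Ideal R) {n : ℕ} (hpd : PD R I n)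
    [Module.Projective (R ⧸ I) I.Cotangent] (p : Ideal R) [p.IsPrime] (hIp : I ≤ p) :
    ∃ g : R, g ∉ p ∧ ∃ rs : List (Localization.Away g),
      IsRegular (Localization.Away g) rs ∧ Ideal.ofList rs = I.map (algebraMap R (Localization.Away g)) := by
  classical
  obtain ⟨r, y, hy, hreg, hgen⟩ := exists_local_regular_sequence I hpd p hIp
  rw [isWeaklyRegular_ofFn_iff] at hreg
  -- one element killing all colon defects
  have hcol : ∀ i : Fin r, ∃ g, g ∉ p ∧ ∀ a, y i * a ∈ Ideal.span (y '' {j | j < i}) →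
      g * a ∈ Ideal.span (y '' {j | j < i}) := fun i => by
    let J := Ideal.span (y '' {j | j < i})
    let K : Ideal R := Submodule.comap (LinearMap.mulLeft R (y i)) J
    obtain ⟨T, hT⟩ := IsNoetherian.noetherian K
    have hs : ∀ a : {a // a ∈ T}, ∃ s ∉ p, s * a.1 ∈ J := fun a => by
      have haK : y i * a.1 ∈ J := (hT ▸ Submodule.subset_span a.2 : a.1 ∈ K)
      refine exists_mul_mem_span ?_
      rw [Set.image_image]
      refine hreg i _ ?_
      rw [← Set.image_image, ← Ideal.map_span, ← map_mul]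
      exact Ideal.mem_map_of_mem _ haK
    choose s hs hs' using hs
    refine ⟨∏ a, s a, fun h => ?_, fun a ha => ?_⟩
    · obtain ⟨a, -, hmem⟩ := (Ideal.IsPrime.prod_mem_iff (p := p)).1 h
      exact hs a hmem
    have haK : a ∈ Submodule.span R (T : Set R) := hT.symm ▸ (show a ∈ K from ha)
    induction haK using Submodule.span_induction with
    | mem a ha' =>
      rw [← Finset.mul_prod_erase _ _ (Finset.mem_univ (⟨a, ha'⟩ : {a // a ∈ T})), mul_right_comm]
      exact Ideal.mul_mem_right _ _ (hs' ⟨a, ha'⟩)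
    | zero => rw [mul_zero]; exact zero_mem _
    | add a b ha' hb' iha ihb =>
      rw [mul_add]
      have e : ∀ c ∈ Submodule.span R (T : Set R), y i * c ∈ J := fun c hc => (show c ∈ K from hT ▸ hc)
      exact add_mem (iha (e a ha')) (ihb (e b hb'))
    | smul c a ha' iha =>
      rw [smul_eq_mul, mul_left_comm]
      exact Ideal.mul_mem_left _ _ (iha ((hT ▸ ha' : a ∈ K)))
  choose g₁ hg₁ hg₁' using hcol
  obtain ⟨T, hT⟩ := IsNoetherian.noetherian I
  have hs : ∀ a : {a // a ∈ T}, ∃ s ∉ p, s * a.1 ∈ Ideal.span (Set.range y) := fun a => by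
    refine exists_mul_mem_span ?_
    rw [← Set.range_comp]
    change _ ∈ Ideal.span (Set.range fun i => algebraMap R (Localization.AtPrime p) (y i))
    rw [hgen]
    exact Ideal.mem_map_of_mem _ (hT ▸ Submodule.subset_span a.2)
  choose s hs hs' using hs
  let g := (∏ i, g₁ i) * ∏ a, s a
  have hg : g ∉ p := fun h => by
    rcases Ideal.IsPrime.mem_or_mem ‹p.IsPrime› h with h | h
    · obtain ⟨i, -, hi⟩ := (Ideal.IsPrime.prod_mem_iff (p := p)).1 h
      exact hg₁ i hi
    · obtain ⟨a, -, ha⟩ := (Ideal.IsPrime.prod_mem_iff (p := p)).1 h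
      exact hs a ha
  let B := Localization.Away g
  let M := Submonoid.powers g
  have hgu : IsUnit (algebraMap R B g) := IsLocalization.map_units B (⟨g, Submonoid.mem_powers g⟩ : M)
  have heq : I.map (algebraMap R B) = Ideal.span (Set.range fun i => algebraMap R B (y i)) := by
    refine le_antisymm ?_ (Ideal.span_le.2 (by rintro _ ⟨i, rfl⟩; exact Ideal.mem_map_of_mem _ (hy i)))
    rw [show I = Submodule.span R (T : Set R) from hT.symm, ← Ideal.span, Ideal.map_span, Ideal.span_le]
    rintro _ ⟨a, ha, rfl⟩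
    rw [SetLike.mem_coe, ← Ideal.unit_mul_mem_iff_mem _ hgu, ← map_mul]
    have h1 : g * a ∈ Ideal.span (Set.range y) := by
      rw [mul_assoc, ← Finset.mul_prod_erase _ _ (Finset.mem_univ (⟨a, ha⟩ : {a // a ∈ T})), mul_right_comm (s _)]
      exact Ideal.mul_mem_left _ _ (Ideal.mul_mem_right _ _ (hs' _))
    have h2 := Ideal.mem_map_of_mem (algebraMap R B) h1
    rw [Ideal.map_span, ← Set.range_comp] at h2
    exact h2
  refine ⟨g, hg, List.ofFn fun i => algebraMap R B (y i), ?_, ?_⟩
  · refine ⟨(isWeaklyRegular_ofFn_iff _).2 fun i a ha => ?_, fun htop => ?_⟩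
    · obtain ⟨⟨b, t⟩, hbt⟩ := IsLocalization.surj M a
      rw [← Set.image_image (algebraMap R B) y, ← Ideal.map_span] at ha ⊢
      have h1 : algebraMap R B (y i * b) ∈ Ideal.map (algebraMap R B) (Ideal.span (y '' {j | j < i})) := by
        rw [map_mul, ← hbt, ← mul_assoc]
        exact Ideal.mul_mem_right _ _ ha
      obtain ⟨⟨⟨c, hc⟩, t'⟩, h'⟩ := (IsLocalization.mem_map_algebraMap_iff M B).1 h1
      obtain ⟨d, hd⟩ := (IsLocalization.eq_iff_exists M B).1
        (show algebraMap R B (y i * b * t') = algebraMap R B c by rw [map_mul]; exact h')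
      have h2 : y i * ((d : R) * t' * b) ∈ Ideal.span (y '' {j | j < i}) := by
        rw [show y i * ((d : R) * t' * b) = d * (y i * b * t') by ring, hd]
        exact Ideal.mul_mem_left _ _ hc
      have h3 := Ideal.mem_map_of_mem (algebraMap R B) (hg₁' i _ h2)
      have hu : IsUnit (algebraMap R B (g₁ i * ((d : R) * t'))) := by
        rw [map_mul, map_mul]
        refine IsUnit.mul ?_ ((IsLocalization.map_units B d).mul (IsLocalization.map_units B t'))
        refine isUnit_of_dvd_unit (map_dvd _ ?_) hgu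
        exact (Finset.dvd_prod_of_mem _ (Finset.mem_univ i)).trans (Dvd.intro _ rfl)
      rw [show g₁ i * ((d : R) * t' * b) = g₁ i * ((d : R) * t') * b by ring, map_mul, Ideal.unit_mul_mem_iff_mem _ hu,
        ← hbt] at h3
      exact (Ideal.mul_unit_mem_iff_mem _ (IsLocalization.map_units B t)).1 h3
    · have h1 : I.map (algebraMap R B) ≤ Ideal.map (algebraMap R B) p := Ideal.map_mono hIp
      have h2 : Ideal.map (algebraMap R B) p ≠ ⊤ := by
        refine (IsLocalization.isPrime_of_isPrime_disjoint M B p ‹_› ?_).ne_top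
        rw [Set.disjoint_left]
        rintro _ ⟨k, rfl⟩ hk
        exact hg (Ideal.IsPrime.mem_of_pow_mem ‹_› k hk)
      refine h2 (top_le_iff.1 ?_)
      refine htop.le.trans ?_
      rw [smul_eq_mul, Ideal.mul_top, Ideal.ofList, Ideal.span_le]
      intro a ha
      obtain ⟨i, rfl⟩ := List.mem_ofFn.1 ha
      exact h1 (Ideal.mem_map_of_mem _ (hy i))
  · rw [heq, Ideal.ofList]
    congr 1
    ext a
    simp [List.mem_ofFn]

end Groth.Agent.Vasc
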