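import Groth.Agent.Lib.RegLoc.GlobalDim
import Mathlib.RingTheory.Ideal.Cotangent
import Mathlib.RingTheory.Ideal.AssociatedPrime.Localization
import Mathlib.RingTheory.Ideal.AssociatedPrime.Finiteness
import Mathlib.RingTheory.Regular.RegularSequence
import Mathlib.LinearAlgebra.Projection

/-!
# Vasconcelos: free summands of the conormal module of an ideal of finite projective dimension
-/

universe u

open IsLocalRing RingTheory.Sequence Groth.Agent.RegLoc
open scoped Pointwise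

noncomputable section

namespace Groth.Agent.Vasc

variable {R : Type u} [CommRing R]

theorem ψ_eq_zero_of_mem_sq {I : Ideal R} {ι : Type*} (ψ : ↥I →ₗ[R] ι → R ⧸ I) (y : ↥I)
    (hy : (y : R) ∈ I * I) : ψ y = 0 := by
  have : ∀ a ∈ I * I, ∃ h : a ∈ I, ψ ⟨a, h⟩ = 0 := by
    intro a ha
    refine Submodule.mul_induction_on ha (fun u hu v hv => ⟨I.mul_mem_left u hv, ?_⟩) ?_
    · have h1 : (⟨u * v, I.mul_mem_left u hv⟩ : ↥I) = u • ⟨v, hv⟩ := Subtype.ext rfl
      rw [h1, map_smul]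
      funext i
      rw [Pi.smul_apply, Algebra.smul_def, Ideal.Quotient.algebraMap_eq,
        Ideal.Quotient.eq_zero_iff_mem.2 hu, zero_mul]
      rfl
    · rintro a b ⟨ha, h1⟩ ⟨hb, h2⟩
      refine ⟨add_mem ha hb, ?_⟩
      refine (congrArg ψ (rfl : _ = (⟨a, ha⟩ + ⟨b, hb⟩ : ↥I))).trans ?_
      rw [map_add, h1, h2, add_zero]
  obtain ⟨_, h⟩ := this _ hy
  exact h

variable [IsNoetherianRing R]

theorem not_le_associatedPrime (I : Ideal R) {n : ℕ} (hpd : PD R I n) {k : ℕ}
    (ψ : ↥I →ₗ[R] Fin k → R ⧸ I) (v : ↥I) (j : Fin k) (hv : ψ v = Pi.single j 1)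
    {p : Ideal R} (hp : p ∈ associatedPrimes R R) : ¬ I ≤ p := by
  intro hIp
  obtain ⟨hprime, z₀, hz₀⟩ := isAssociatedPrime_iff.mp hp
  have hz₀' : ∀ a, a ∈ p ↔ a * z₀ = 0 := fun a => by
    rw [hz₀, Submodule.mem_colon_singleton, Submodule.mem_bot, smul_eq_mul]
  let S := p.primeCompl
  have hz : algebraMap R (Localization.AtPrime p) z₀ ≠ 0 := fun h => by
    obtain ⟨s, hs⟩ := (IsLocalization.map_eq_zero_iff S _ _).1 h
    exact s.2 ((hz₀' _).2 hs)
  have hzm : ∀ a ∈ maximalIdeal (Localization.AtPrime p), a * algebraMap R (Localization.AtPrime p) z₀ = 0 := by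
    intro a ha
    rw [← Localization.AtPrime.map_eq_maximalIdeal] at ha
    induction ha using Submodule.span_induction with
    | mem a ha =>
      obtain ⟨b, hb, rfl⟩ := ha
      rw [← map_mul, (hz₀' b).1 hb, map_zero]
    | zero => rw [zero_mul]
    | add a b _ _ ha hb => rw [add_mul, ha, hb, add_zero]
    | smul a b _ hb => rw [smul_eq_mul, mul_assoc, hb, mul_zero]
  have : Module.Finite (Localization.AtPrime p) (LocalizedModule S I) :=
    Module.Finite.of_isLocalizedModule S (Rₚ := Localization.AtPrime p) (LocalizedModule.mkLinearMap S I)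
  have hfree : Module.Free (Localization.AtPrime p) (LocalizedModule S I) :=
    free_of_pd hz hzm _ (pd_localizedModule S I hpd)
  have hkill : ∀ x : LocalizedModule S I, algebraMap R (Localization.AtPrime p) z₀ • x = 0 := fun x => by
    induction x using LocalizedModule.induction_on with
    | h y s =>
      rw [algebraMap_smul, LocalizedModule.smul'_mk]
      have : z₀ • y = 0 := Subtype.ext (by
        change z₀ * (y : R) = 0
        rw [mul_comm]
        exact (hz₀' _).1 (hIp y.2))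
      rw [this, LocalizedModule.zero_mk]
  obtain ⟨ι, ⟨b⟩⟩ := (Module.free_def.{u, u, u} _ _).1 hfree
  have : IsEmpty ι := ⟨fun i => hz (by
    have := congrArg (fun w => b.repr w i) (hkill (b i))
    simp only [map_smul, Finsupp.smul_apply, Module.Basis.repr_self, Finsupp.single_eq_same, smul_eq_mul,
      mul_one, map_zero, Finsupp.zero_apply] at this
    exact this)⟩
  have : Subsingleton (LocalizedModule S I) := b.repr.toEquiv.subsingleton
  obtain ⟨s, hs, hsv⟩ := LocalizedModule.subsingleton_iff.1 this v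
  refine hs (hIp ?_)
  have h := congrArg ψ hsv
  rw [map_smul, hv, map_zero] at h
  have h' := congrFun h j
  rw [Pi.smul_apply, Pi.single_eq_same, Pi.zero_apply, Algebra.smul_def, mul_one,
    Ideal.Quotient.algebraMap_eq, Ideal.Quotient.eq_zero_iff_mem] at h'
  exact h'

theorem exists_isSMulRegular_add (x₀ : R) (J : Ideal R) (hJ : ∀ p ∈ associatedPrimes R R, ¬ J ≤ p) :
    ∃ a ∈ J, IsSMulRegular R (x₀ + a) := by
  classical
  obtain ⟨P, hPmem⟩ : ∃ P : Finset (Ideal R), ∀ q, q ∈ P ↔ q ∈ associatedPrimes R R :=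
    ⟨_, fun _ => (associatedPrimes.finite R R).mem_toFinset⟩
  have hP : ∀ q ∈ P, q.IsPrime := fun q hq => IsAssociatedPrime.isPrime ((hPmem q).1 hq)
  let M := P.filter fun q => ∀ q' ∈ P, q ≤ q' → q' ≤ q
  let T := M.filter fun q => x₀ ∉ q
  let T' := M.filter fun q => x₀ ∈ q
  have hM : ∀ q ∈ P, ∃ q' ∈ M, q ≤ q' := fun q hq => by
    obtain ⟨m, hqm, hm⟩ := P.exists_le_maximal hq
    exact ⟨m, Finset.mem_filter.2 ⟨hm.1, fun q' hq' h => hm.2 hq' h⟩, hqm⟩
  let K := J * ∏ q ∈ T, q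
  have hK : ∀ q' ∈ T', ¬ K ≤ q' := by
    intro q' hq' hle
    have hq'M := (Finset.mem_filter.1 hq').1
    have hq'P := (Finset.mem_filter.1 hq'M).1
    rcases (hP q' hq'P).mul_le.1 hle with h | h
    · exact hJ q' ((hPmem q').1 hq'P) h
    · obtain ⟨q, hq, hqq⟩ := (Ideal.IsPrime.prod_le (hP q' hq'P)).1 h
      have hqM := (Finset.mem_filter.1 hq).1
      have hqP := (Finset.mem_filter.1 hqM).1
      have heq := le_antisymm hqq ((Finset.mem_filter.1 hqM).2 q' hq'P hqq)
      exact (Finset.mem_filter.1 hq).2 (heq ▸ (Finset.mem_filter.1 hq').2)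
  obtain ⟨a, haK, ha⟩ : ∃ a ∈ K, ∀ q' ∈ T', a ∉ q' := by
    by_contra hc
    push Not at hc
    have hsub : (K : Set R) ⊆ ⋃ q ∈ (T' : Set (Ideal R)), ((fun q => q) q : Ideal R) := fun a ha => by
      obtain ⟨q', hq', h⟩ := hc a ha
      exact Set.mem_iUnion₂.2 ⟨q', hq', h⟩
    obtain ⟨q', hq', hle⟩ := (Ideal.subset_union_prime (R := R) (f := fun q : Ideal R => q) (s := T') ⊥ ⊥
      (fun q hq _ _ => hP q (Finset.mem_filter.1 (Finset.mem_filter.1 hq).1).1) (I := K)).1 hsub
    exact hK q' hq' hle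
  refine ⟨a, Ideal.mul_le_left haK, ?_⟩
  rw [isSMulRegular_iff_right_eq_zero_of_smul]
  intro m hm
  by_contra hm0
  obtain ⟨q, hq, hle⟩ := exists_le_isAssociatedPrime_of_isNoetherianRing R m hm0
  obtain ⟨q', hq', hqq⟩ := hM q ((hPmem q).2 hq)
  have hmem : x₀ + a ∈ q' := hqq (hle (Submodule.mem_colon_singleton.2 ((Submodule.mem_bot R).2 hm)))
  by_cases hx : x₀ ∈ q'
  · exact ha q' (Finset.mem_filter.2 ⟨hq', hx⟩) (by simpa using sub_mem hmem hx)
  · have haq : a ∈ q' := by
      have h1 : ∏ q ∈ T, q ≤ q' := (Ideal.IsPrime.prod_le (hP q' (Finset.mem_filter.1 hq').1)).2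
        ⟨q', Finset.mem_filter.2 ⟨hq', hx⟩, le_rfl⟩
      exact h1 (Ideal.mul_le_right haK)
    exact hx (by simpa using sub_mem hmem haq)

/-- Vasconcelos: elements mapping to a free summand basis can be corrected to a regular sequence. -/
theorem exists_regular_sequence : ∀ (k : ℕ) (R : Type u) [CommRing R] [IsLocalRing R] [IsNoetherianRing R]
    (I : Ideal R), I ≠ ⊤ → ∀ (n : ℕ), PD R I n → ∀ (ψ : ↥I →ₗ[R] Fin k → R ⧸ I) (v : Fin k → ↥I),
      (∀ i, ψ (v i) = Pi.single i 1) →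
        ∃ x : Fin k → ↥I, IsWeaklyRegular R (List.ofFn fun i => (x i : R)) ∧
          ∀ i, (x i : R) - v i ∈ I * I := by
  intro k
  induction k with
  | zero => intro R _ _ _ I _ n _ ψ v _; exact ⟨v, by simp, fun i => i.elim0⟩
  | succ k ih =>
    intro R _ _ _ I hI n hpd ψ v hv
    have hass : ∀ p ∈ associatedPrimes R R, ¬ I * I ≤ p := fun p hp h => by
      rcases (IsAssociatedPrime.isPrime hp).mul_le.1 h with h | h <;>
        exact not_le_associatedPrime I hpd ψ (v 0) 0 (hv 0) hp h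
    obtain ⟨a, ha, hreg⟩ := exists_isSMulRegular_add (v 0 : R) (I * I) hass
    let x₀ : ↥I := v 0 + ⟨a, Ideal.mul_le_left ha⟩
    have hx₀ : ψ x₀ = Pi.single 0 1 := by
      rw [map_add, hv, ψ_eq_zero_of_mem_sq ψ ⟨a, Ideal.mul_le_left ha⟩ ha, add_zero]
    have hxm : (x₀ : R) ∈ maximalIdeal R := le_maximalIdeal hI x₀.2
    have hxI : IsSMulRegular ↥I (x₀ : R) := fun p q h => Subtype.ext (hreg (congrArg Subtype.val h))
    let J := Ideal.span {(x₀ : R)}
    have hJ : J ≠ ⊤ :=
      ne_top_of_le_ne_top (maximalIdeal.isMaximal R).ne_top ((Ideal.span_singleton_le_iff_mem _).2 hxm)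
    have : Nontrivial (R ⧸ J) := Ideal.Quotient.nontrivial_iff.2 hJ
    have : IsLocalRing (R ⧸ J) := .of_surjective' _ Ideal.Quotient.mk_surjective
    let I' : Ideal (R ⧸ J) := I.map (Ideal.Quotient.mk J)
    have hJI : J ≤ I := (Ideal.span_singleton_le_iff_mem _).2 x₀.2
    have hcomap : I'.comap (Ideal.Quotient.mk J) = I := by
      rw [Ideal.comap_map_of_surjective _ Ideal.Quotient.mk_surjective, ← RingHom.ker_eq_comap_bot,
        Ideal.mk_ker, sup_eq_left]
      exact hJI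
    have hI' : I' ≠ ⊤ := fun h => hI (by rw [← hcomap, h, Ideal.comap_top])
    -- the image of an element of `I` in `I'`
    let π : ↥I →ₗ[R] ↥I' :=
      { toFun := fun y => ⟨Ideal.Quotient.mk J y, Ideal.mem_map_of_mem _ y.2⟩
        map_add' := fun y z => Subtype.ext (map_add _ _ _)
        map_smul' := fun c y => Subtype.ext (by
          change Ideal.Quotient.mk J (c * (y : R)) = c • Ideal.Quotient.mk J (y : R)
          rw [map_mul, Algebra.smul_def]; rfl) }
    have hπ : Function.Surjective π := by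
      intro z
      obtain ⟨y, hy, hyz⟩ := (Ideal.mem_map_iff_of_surjective _ Ideal.Quotient.mk_surjective).1 z.2
      exact ⟨⟨y, hy⟩, Subtype.ext hyz⟩
    have hkerπ : ∀ y, π y = 0 → ∃ c : R, y = c • x₀ := by
      intro y hy
      obtain ⟨c, hc⟩ := Ideal.mem_span_singleton'.1 (Ideal.Quotient.eq_zero_iff_mem.1 (congrArg Subtype.val hy))
      exact ⟨c, Subtype.ext hc.symm⟩
    -- projective dimension of `I'`
    let q : ↥I →ₗ[R] QuotSMulTop (x₀ : R) ↥I := Submodule.mkQ _
    have hxx : ∀ c ∈ I, c • q x₀ = 0 := by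
      intro c hc
      rw [← map_smul]
      refine (Submodule.Quotient.mk_eq_zero _).2 ?_
      have : c • x₀ = (x₀ : R) • (⟨c, hc⟩ : ↥I) := Subtype.ext (mul_comm _ _)
      rw [this]
      exact Submodule.smul_mem_pointwise_smul _ _ _ trivial
    let τ : R ⧸ I →ₗ[R] QuotSMulTop (x₀ : R) ↥I :=
      Submodule.liftQ I (LinearMap.toSpanSingleton R _ (q x₀)) fun c hc => hxx c hc
    let h₁ : ↥I →ₗ[R] QuotSMulTop (x₀ : R) ↥I := q - τ ∘ₗ (LinearMap.proj 0 : (Fin (k + 1) → R ⧸ I) →ₗ[R] R ⧸ I) ∘ₗ ψ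
    have hh₁ : h₁ x₀ = 0 := by
      simp only [h₁, LinearMap.sub_apply, LinearMap.comp_apply, hx₀, LinearMap.proj_apply, Pi.single_eq_same]
      rw [sub_eq_zero]
      exact (one_smul R (q x₀)).symm
    have hσ : LinearMap.ker π ≤ LinearMap.ker h₁ := fun y hy => by
      obtain ⟨c, rfl⟩ := hkerπ y hy
      rw [LinearMap.mem_ker, map_smul, hh₁, smul_zero]
    let σ : ↥I' →ₗ[R] QuotSMulTop (x₀ : R) ↥I :=
      (LinearMap.ker π).liftQ h₁ hσ ∘ₗ (π.quotKerEquivOfSurjective hπ).symm.toLinearMap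
    have hσπ : ∀ y, σ (π y) = h₁ y := fun y => by
      simp only [σ, LinearMap.comp_apply, LinearEquiv.coe_coe]
      rw [show (π.quotKerEquivOfSurjective hπ).symm (π y) = Submodule.Quotient.mk y from
        (LinearEquiv.symm_apply_eq _).2 rfl, Submodule.liftQ_apply]
    have hπx : π x₀ = 0 := Subtype.ext (Ideal.Quotient.eq_zero_iff_mem.2 (Ideal.mem_span_singleton_self _))
    let ρ : QuotSMulTop (x₀ : R) ↥I →ₗ[R] ↥I' := Submodule.liftQ _ π fun y hy => by
      obtain ⟨w, -, rfl⟩ := (Submodule.mem_smul_pointwise_iff_exists _ _ _).1 hy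
      rw [LinearMap.mem_ker, map_smul]
      refine Subtype.ext ?_
      change (x₀ : R) • (π w : R ⧸ J) = 0
      rw [Algebra.smul_def, Ideal.Quotient.algebraMap_eq,
        Ideal.Quotient.eq_zero_iff_mem.2 (Ideal.mem_span_singleton_self _), zero_mul]
    have hρσ : ρ ∘ₗ σ = LinearMap.id := by
      refine LinearMap.ext fun z => ?_
      obtain ⟨y, rfl⟩ := hπ z
      rw [LinearMap.comp_apply, hσπ, LinearMap.id_apply]
      simp only [h₁, LinearMap.sub_apply, map_sub, LinearMap.comp_apply]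
      obtain ⟨c, hc⟩ := Submodule.mkQ_surjective I ((LinearMap.proj 0 : (Fin (k + 1) → R ⧸ I) →ₗ[R] R ⧸ I) (ψ y))
      rw [← hc]
      change π y - ρ (c • q x₀) = π y
      rw [map_smul]
      change π y - c • π x₀ = π y
      rw [hπx, smul_zero, sub_zero]
    have hpd' : PD (R ⧸ J) ↥I' n :=
      ((pd_quotSMulTop_iff hxm hreg ↥I hxI).1 hpd).of_retract
        (LinearMap.extendScalarsOfSurjective Ideal.Quotient.mk_surjective σ)
        (LinearMap.extendScalarsOfSurjective Ideal.Quotient.mk_surjective ρ)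
        (LinearMap.ext fun z => LinearMap.congr_fun hρσ z)
    -- the induced map on `I'`
    let ιq : R ⧸ I →ₗ[R] (R ⧸ J) ⧸ I' :=
      Submodule.liftQ I ((Ideal.Quotient.mkₐ R I').toLinearMap ∘ₗ (Ideal.Quotient.mkₐ R J).toLinearMap) fun c hc => by
        rw [LinearMap.mem_ker]
        exact Ideal.Quotient.eq_zero_iff_mem.2 (Ideal.mem_map_of_mem _ hc)
    let ψ₁ : ↥I →ₗ[R] Fin k → (R ⧸ J) ⧸ I' := LinearMap.pi fun i => ιq ∘ₗ LinearMap.proj i.succ ∘ₗ ψ
    have hψ₁ : LinearMap.ker π ≤ LinearMap.ker ψ₁ := fun y hy => by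
      obtain ⟨c, rfl⟩ := hkerπ y hy
      rw [LinearMap.mem_ker]
      funext i
      simp only [ψ₁, LinearMap.pi_apply, LinearMap.comp_apply, map_smul, LinearMap.proj_apply, hx₀,
        Pi.single_eq_of_ne (Fin.succ_ne_zero i), map_zero, smul_zero, Pi.smul_apply, Pi.zero_apply]
    let ψ₂ : ↥I' →ₗ[R] Fin k → (R ⧸ J) ⧸ I' :=
      (LinearMap.ker π).liftQ ψ₁ hψ₁ ∘ₗ (π.quotKerEquivOfSurjective hπ).symm.toLinearMap
    have hψ₂ : ∀ y, ψ₂ (π y) = ψ₁ y := fun y => by
      simp only [ψ₂, LinearMap.comp_apply, LinearEquiv.coe_coe]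
      rw [show (π.quotKerEquivOfSurjective hπ).symm (π y) = Submodule.Quotient.mk y from
        (LinearEquiv.symm_apply_eq _).2 rfl, Submodule.liftQ_apply]
    obtain ⟨x', hx'reg, hx'v⟩ := ih (R ⧸ J) I' hI' n hpd'
      (LinearMap.extendScalarsOfSurjective Ideal.Quotient.mk_surjective ψ₂) (fun i => π (v i.succ)) fun i => by
      change ψ₂ (π (v i.succ)) = _
      rw [hψ₂]
      funext l
      simp only [ψ₁, LinearMap.pi_apply, LinearMap.comp_apply, LinearMap.proj_apply, hv]
      rcases eq_or_ne l i with rfl | hl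
      · rw [Pi.single_eq_same, Pi.single_eq_same]
        rfl
      · rw [Pi.single_eq_of_ne hl, Pi.single_eq_of_ne fun h => hl (Fin.succ_injective _ h), map_zero]
    have hlift : ∀ i, ∃ b ∈ I * I, Ideal.Quotient.mk J b = (x' i : R ⧸ J) - (π (v i.succ) : R ⧸ J) := fun i =>
      (Ideal.mem_map_iff_of_surjective _ Ideal.Quotient.mk_surjective).1 (by
        rw [Ideal.map_mul]; exact hx'v i)
    choose b hb hb' using hlift
    refine ⟨Fin.cons x₀ fun i => v i.succ + ⟨b i, Ideal.mul_le_left (hb i)⟩, ?_, Fin.cases ?_ fun i => ?_⟩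
    · rw [List.ofFn_succ]
      simp only [Fin.cons_zero, Fin.cons_succ]
      rw [isWeaklyRegular_cons_iff]
      refine ⟨hreg, ?_⟩
      have h1 : IsWeaklyRegular (R ⧸ J) (List.ofFn fun i => (x' i : R ⧸ J)) := hx'reg
      have h2 : (List.ofFn fun i => (x' i : R ⧸ J)) =
          (List.ofFn fun i => ((v i.succ + ⟨b i, Ideal.mul_le_left (hb i)⟩ : ↥I) : R)).map (algebraMap R (R ⧸ J)) := by
        rw [List.map_ofFn]
        congr 1
        funext i
        rw [Function.comp_apply, Submodule.coe_add, Ideal.Quotient.algebraMap_eq, map_add, hb']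
        change (x' i : R ⧸ J) = Ideal.Quotient.mk J (v i.succ : R) + ((x' i : R ⧸ J) - Ideal.Quotient.mk J (v i.succ : R))
        abel
      rw [h2, isWeaklyRegular_map_algebraMap_iff] at h1
      refine (LinearEquiv.isWeaklyRegular_congr (Submodule.quotEquivOfEq _ _ ?_) _).2 h1
      change (x₀ : R) • (⊤ : Submodule R R) = J
      rw [← Submodule.ideal_span_singleton_smul, smul_eq_mul, Ideal.mul_top]
    · simpa [x₀] using ha
    · simpa using hb i

theorem isRegular_of_mem {R : Type u} [CommRing R] [IsLocalRing R] {I : Ideal R} (hI : I ≠ ⊤)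
    {l : List R} (hl : ∀ a ∈ l, a ∈ I) (h : IsWeaklyRegular R l) : IsRegular R l :=
  ⟨h, fun htop => hI (top_le_iff.1 (htop.le.trans (by
    rw [smul_eq_mul, Ideal.mul_top, Ideal.ofList, Ideal.span_le]
    exact hl)))⟩

theorem exists_of_summand [IsLocalRing R] (I : Ideal R) (hI : I ≠ ⊤) {n : ℕ}
    (hpd : CategoryTheory.HasProjectiveDimensionLT (ModuleCat.of R I) n)
    (F G : Submodule (R ⧸ I) I.Cotangent) (hFG : IsCompl F G) (r : ℕ)
    (e : F ≃ₗ[R ⧸ I] (Fin r → R ⧸ I)) :
    ∃ (x : Fin r → R) (hx : ∀ i, x i ∈ I), IsRegular R (List.ofFn x) ∧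
      Submodule.span (R ⧸ I) (Set.range fun i => I.toCotangent ⟨x i, hx i⟩) = F := by
  let P : I.Cotangent →ₗ[R ⧸ I] Fin r → R ⧸ I := e.toLinearMap ∘ₗ Submodule.projectionOnto F G hFG
  let ψ : ↥I →ₗ[R] Fin r → R ⧸ I := P.restrictScalars R ∘ₗ I.toCotangent
  choose v hv using fun i => Ideal.toCotangent_surjective I (e.symm (Pi.single i 1) : I.Cotangent)
  have hψv : ∀ i, ψ (v i) = Pi.single i 1 := fun i => by
    simp only [ψ, LinearMap.comp_apply, LinearMap.restrictScalars_apply, hv, P, LinearEquiv.coe_coe]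
    rw [Submodule.projectionOnto_apply_left, e.apply_symm_apply]
  have hpd' : PD R I n := CategoryTheory.hasProjectiveDimensionLT_of_ge _ n (n + 1) n.le_succ
  obtain ⟨x, hreg, hx⟩ := exists_regular_sequence r R I hI n hpd' ψ v hψv
  refine ⟨fun i => x i, fun i => (x i).2, isRegular_of_mem hI (fun a ha => ?_) hreg, ?_⟩
  · obtain ⟨i, rfl⟩ := List.mem_ofFn.1 ha
    exact (x i).2
  · have heq : ∀ i, I.toCotangent ⟨x i, (x i).2⟩ = (e.symm (Pi.single i 1) : I.Cotangent) := fun i => by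
      rw [← hv, Ideal.toCotangent_eq, sq]
      exact hx i
    rw [show (fun i => I.toCotangent ⟨x i, (x i).2⟩) = F.subtype ∘ (e.symm ∘ fun i => Pi.single i 1) from funext heq,
      Set.range_comp, Submodule.span_image, Set.range_comp,
      ← LinearEquiv.coe_coe, Submodule.span_image,
      show Submodule.span (R ⧸ I) (Set.range fun i : Fin r => (Pi.single i 1 : Fin r → R ⧸ I)) = ⊤ by
        rw [← (Pi.basisFun (R ⧸ I) (Fin r)).span_eq]; congr; funext i; simp,
      Submodule.map_top, LinearEquiv.range, Submodule.map_top, Submodule.range_subtype]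

theorem exists_of_rank_one [IsLocalRing R] (I : Ideal R) {n : ℕ}
    (hpd : CategoryTheory.HasProjectiveDimensionLT (ModuleCat.of R I) n)
    (F G : Submodule (R ⧸ I) I.Cotangent) (hFG : IsCompl F G) (e : F ≃ₗ[R ⧸ I] (R ⧸ I)) :
    ∃ (x : R) (hx : x ∈ I), x ∈ nonZeroDivisors R ∧
      Submodule.span (R ⧸ I) {I.toCotangent ⟨x, hx⟩} = F := by
  by_cases hI : I = ⊤
  · subst hI
    have : Subsingleton (R ⧸ (⊤ : Ideal R)) := Ideal.Quotient.subsingleton_iff.2 rfl
    have : Subsingleton (Ideal.Cotangent (⊤ : Ideal R)) := Module.subsingleton (R ⧸ (⊤ : Ideal R)) _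
    exact ⟨1, trivial, one_mem _, Subsingleton.elim _ _⟩
  obtain ⟨x, hx, hreg, hspan⟩ := exists_of_summand I hI hpd F G hFG 1
    (e.trans (LinearEquiv.funUnique (Fin 1) (R ⧸ I) (R ⧸ I)).symm)
  refine ⟨x 0, hx 0, ?_, ?_⟩
  · have h1 : IsSMulRegular R (x 0) := by
      have := hreg.toIsWeaklyRegular
      rw [List.ofFn_succ, isWeaklyRegular_cons_iff] at this
      exact this.1
    rw [← isRegular_iff_mem_nonZeroDivisors]
    exact ⟨h1, fun a b h => h1 (show x 0 * a = x 0 * b by rw [mul_comm, mul_comm (x 0) b]; exact h)⟩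
  · rw [← hspan]
    congr 1
    exact (Set.range_unique (f := fun i => I.toCotangent ⟨x i, hx i⟩)).symm

end Groth.Agent.Vasc
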